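import Cfsg.Agent.KM.Ht.Defs
import Cfsg.Agent.DL.Lef.Exp

/-!
# KM, the content of the degree polynomial: statements (helper63)

`Sol F S g` is the set of the solutions in `S` of `∏ ⁅x i, y i⁆ * (u * F b * u⁻¹ * b⁻¹) = 1`.
* `BoxCnt` : the number of solutions is `|S| ∑ (|S| / ψ 1) ^ (2 g)`, the sum over the `F`-stable irreducible characters;
* `BoxDw` : the numbers of solutions in the groups `G ^ (F ^ m)` form an exponential sum with integer coefficients;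
* `BoxExp`, `BoxPow` : two integrality statements on polynomials;
* `BoxBij` : the lift is a bijection onto the `F`-stable irreducible characters.
-/

set_option autoImplicit false
set_option linter.unusedSectionVars false

namespace Cfsg.Agent.KM.Deg

open Cfsg Cfsg.Agent.DL Cfsg.Agent.DL.Lef Cfsg.Agent.KZ.Lie Cfsg.Agent.LangThm Polynomial

section Grp

variable {Y : Type} [Group Y]

/-- the solutions in `S` of `∏ ⁅x i, y i⁆ * (u * F b * u⁻¹ * b⁻¹) = 1` -/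
def Sol (F : MulAut Y) (S : Subgroup Y) (g : ℕ) : Set ((Fin g → Y × Y) × Y × Y) :=
  {z | (∀ i, (z.1 i).1 ∈ S ∧ (z.1 i).2 ∈ S) ∧ z.2.1 ∈ S ∧ z.2.2 ∈ S ∧
    (List.ofFn fun i => (z.1 i).1 * (z.1 i).2 * (z.1 i).1⁻¹ * (z.1 i).2⁻¹).prod *
      (z.2.1 * F z.2.2 * z.2.1⁻¹ * z.2.2⁻¹) = 1}

/-- `F`-stable functions -/
def Stab (F : MulAut Y) {S : Subgroup Y} (ψ : S → ℂ) : Prop := ∀ g g' : S, (g' : Y) = F g → ψ g' = ψ g

end Grp

/-- a power of `F` is a standard Frobenius map of the corresponding level -/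
def NT (p : ℕ) [Fact p.Prime] {k : Type} [Field k] [CharP k p] {Y : Type} [Group Y] {N : Type} [Fintype N] [DecidableEq N]
    (ρ : Y →* GL N k) (F : MulAut Y) : Prop :=
  ∃ n d, 0 < n ∧ 0 < d ∧ ∀ y, ρ ((F ^ d) y) = frob p (n * d) (ρ y)

/-- the numbers of solutions form an exponential sum with integer coefficients -/
def Dw {Y : Type} [Group Y] (F : MulAut Y) (G : Subgroup Y) : Prop :=
  ∀ g : ℕ, ExpZ fun m => (Nat.card (Sol F (GF (F ^ m) G) g) : ℂ)

/-- D1 : the number of solutions -/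
def BoxCnt : Prop :=
  ∀ (Y : Type) [Group Y] (F : MulAut Y) (S : Subgroup Y) [Finite S], (∀ y ∈ S, F y ∈ S) → ∀ g : ℕ,
    (Nat.card (Sol F S g) : ℂ) = Nat.card S *
      ∑ᶠ (ψ : IrrCharacter S) (_ : Stab F (ψ : S → ℂ)), ((Nat.card S : ℂ) / (ψ : S → ℂ) 1) ^ (2 * g)

/-- D2 : rationality -/
def BoxDw : Prop :=
  ∀ {p : ℕ} [Fact p.Prime] {k : Type} [Field k] [CharP k p] {Y : Type} [Group Y] {N : Type} [Fintype N]
    [DecidableEq N] {ρ : Y →* GL N k} {F : MulAut Y} {G : Subgroup Y} [IsAlgClosed k] (_ : Datum p ρ F G),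
    NT p ρ F → Dw F G

/-- D3a : a polynomial which interpolates an integral exponential sum at the large primes of a progression -/
def BoxExp : Prop :=
  ∀ (S : ℕ → ℂ), ExpZ S → ∀ (q d B M : ℕ) (P : ℚ[X]), 1 < q → 0 < d → M ≠ 0 →
    (∀ l j : ℕ, l.Prime → B < l → l ≡ 1 [MOD M] → l = 1 + d * j → S l = aeval ((q : ℂ) ^ j) P) →
    ∃ P₀ : ℤ[X], P = P₀.map (Int.castRingHom ℚ)

/-- D3b : integral power sums -/
def BoxPow : Prop :=
  ∀ (ι : Type) [Fintype ι] (x : ι → ℚ[X]) (R : ℚ[X]), R ≠ 0 →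
    (∀ g : ℕ, ∃ P₀ : ℤ[X], R * ∑ i, x i ^ (2 * g) = P₀.map (Int.castRingHom ℚ)) →
    ∀ i, ∃ h : ℤ[X], x i = h.map (Int.castRingHom ℚ)

/-- D4 : the lift is a bijection onto the stable characters -/
def BoxBij : Prop :=
  ∀ {p : ℕ} [Fact p.Prime] {k : Type} [Field k] [CharP k p] {Y : Type} [Group Y] {N : Type} [Fintype N]
    [DecidableEq N] {ρ : Y →* GL N k} {F : MulAut Y} {G : Subgroup Y} [IsAlgClosed k] {X : Datum p ρ F G} (f : Fr X)
    [Fintype ↥(GF F G)], X.QS → ∃ B M : ℕ, M ≠ 0 ∧ ∀ (l : ℕ) (hl : l.Prime), B < l → l ≡ 1 [MOD M] →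
      ∃ (_ : Fintype ↥(GF (F ^ l) G)) (f' : Fr (X.pow hl.pos))
        (e : IrrCharacter ↥(GF F G) → IrrCharacter ↥(GF (F ^ l) G)), Function.Injective e ∧
        (∀ ψ : IrrCharacter ↥(GF (F ^ l) G), Stab F (ψ : GF (F ^ l) G → ℂ) ↔ ψ ∈ Set.range e) ∧
        ∀ χ : IrrCharacter ↥(GF F G), ∃ ε : ℂ, (ε = 1 ∨ ε = -1) ∧
          ∀ w c, classInner (e χ : GF (F ^ l) G → ℂ) (RW f' w c) = ε * classInner (χ : GF F G → ℂ) (RW f w c)

/-- **The content of the degree polynomial** is prime to every prime different from `p`. -/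
def BoxDEG : Prop :=
  ∀ {p : ℕ} [Fact p.Prime] {k : Type} [Field k] [CharP k p] {Y : Type} [Group Y] {N : Type} [Fintype N]
    [DecidableEq N] {ρ : Y →* GL N k} {F : MulAut Y} {G : Subgroup Y} [IsAlgClosed k] {X : Datum p ρ F G} (f : Fr X)
    [Fintype ↥(GF F G)], X.QS → NT p ρ F → ∀ χ : GF F G → ℂ, IsIrrCharacter (GF F G) χ →
      ∀ l : ℕ, l.Prime → l ≠ p → Ht.DEG f χ l

end Cfsg.Agent.KM.Deg
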