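import Cfsg.Agent.KM.Deg.Defs

/-!
# KM, the order polynomial and the degree polynomial at all levels (helper63)

* `exists_card` : the polynomial `C (p-part) * X ^ n * Q`, `Q 0 = ± 1`, gives the orders of the groups `G ^ (F ^ l)`;
* `deg_lev` : the degree polynomial gives the degree of every lift; `lfD_unique`.
-/

set_option autoImplicit false
set_option linter.unusedSectionVars false

namespace Cfsg.Agent.KM.Deg

open Cfsg Cfsg.Agent.DL Cfsg.Agent.DL.PP Cfsg.Agent.DL.Uni Cfsg.Agent.KZ.Lie Cfsg.Agent.LV.One Cfsg.Agent.Characters.Core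
  Polynomial

theorem eq_of_levels {A : Type} [CommRing A] [IsDomain A] [CharZero A] {P Q : A[X]} {p e : ℕ} (hp : 1 < p) (he : 0 < e)
    (h : ∀ B, ∃ j, B < j ∧ P.eval ((p : A) ^ (e * j)) = Q.eval ((p : A) ^ (e * j))) : P = Q := by
  refine eq_of_infinite_eval_eq P Q (Set.infinite_of_injOn_mapsTo (f := fun j : ℕ => (p : A) ^ (e * j))
    (s := {j | P.eval ((p : A) ^ (e * j)) = Q.eval ((p : A) ^ (e * j))}) (fun i _ j _ hij => ?_) (fun _ hj => hj)
    (Set.infinite_of_forall_exists_gt fun B => (h B).imp fun _ hj => ⟨hj.2, hj.1⟩))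
  have h1 : p ^ (e * i) = p ^ (e * j) := by
    have h2 : (p : A) ^ (e * i) = (p : A) ^ (e * j) := hij
    exact_mod_cast h2
  exact Nat.eq_of_mul_eq_mul_left he (Nat.pow_right_injective hp h1)

theorem aeval_lev (p n : ℕ) (g : ℚ[X]) : aeval ((p : ℂ) ^ n) g = (g.eval (((p : ℤ) ^ n : ℤ) : ℚ) : ℚ) := by
  rw [show ((p : ℂ) ^ n) = algebraMap ℚ ℂ (((p : ℤ) ^ n : ℤ) : ℚ) by simp, aeval_algebraMap_apply, coe_aeval_eq_eval, eq_ratCast]

variable {p : ℕ} [Fact p.Prime] {k : Type} [Field k] [CharP k p] {Y : Type} [Group Y] {N : Type} [Fintype N]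
  [DecidableEq N] {ρ : Y →* GL N k} {F : MulAut Y} {G : Subgroup Y} [IsAlgClosed k] {D : Datum p ρ F G}

section

variable [Fintype D.W] (hq : D.QS) (f : Fr D)
include hq f

/-- one level : the `p`-part of the order -/
theorem lev_pc {P : D.W → ℤ[X]} {t : ℤ} (hP : ∀ w, (P w).eval t = sgZ D w * ordT D w) :
    pc p (GF F G) * (Sm P 1).eval t = (Sm P (sgZ D)).eval t := by
  have := Asm.finite_GF D
  have := Fintype.ofFinite ↥(GF F G)
  have h0 : ∀ w, (P w).eval t ≠ 0 := fun w => hP w ▸ mul_ne_zero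
    (by rcases sgZ_sign D w with h | h <;> simp [h]) (Nat.cast_ne_zero.2 (ordT_ne w))
  have h1 := (avg_st f hq).2
  have h2 : (Nat.card D.W : ℂ) ≠ 0 := Nat.cast_ne_zero.2 Nat.card_pos.ne'
  have h3 := congrArg (Int.cast : ℤ → ℂ) (lev_ord hq f hP).1
  have h4 : (pc' p (GF F G) : ℂ) ≠ 0 := Nat.cast_ne_zero.2 fun e => not_dvd_pc' (p := p) (GF F G) (e ▸ dvd_zero p)
  rw [avg_top, inv_mul_eq_iff_eq_mul₀ h2, finsum_eq_sum_of_fintype, Finset.sum_congr rfl
    (g := fun w => pc' p (GF F G) * ((sgZ D w : ℂ) / ((P w).eval t : ℤ))) fun w _ => by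
      rw [deg_div hq f fun v => by rw [map_one, map_one], hP, Int.cast_mul, Int.cast_natCast, sg_eq]
      ring, ← Finset.mul_sum] at h1
  refine Int.cast_injective (α := ℂ) (mul_left_cancel₀ h4 ?_)
  rw [Sm_eval h0 (sgZ D)]
  push_cast at h3 ⊢
  linear_combination (-((∏ w, P w).eval t : ℤ) : ℂ) * h1 - (pc p (GF F G) : ℂ) * h3

end

variable (hq : D.QS) (f : Fr D)
include hq f

theorem exists_pc : ∃ n : ℕ, ∀ (l j : ℕ) (_ : 0 < l), l = 1 + f.d * j →
    (pc p (GF (F ^ l) G) : ℤ) = pc p (GF F G) * ((p : ℤ) ^ (f.e * j)) ^ n := by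
  have hp : p.Prime := Fact.out
  have := Fintype.ofFinite D.W
  have h1 := fun (l j : ℕ) (hl : 0 < l) (h : l = 1 + f.d * j) =>
    And.intro (lev_pc (D := D.pow hl) (pow_QS hq hl) (nonempty_fr _).some (P := Pw D) (Pw_pow f.L hl h))
      (lev_ord (D := D.pow hl) (pow_QS hq hl) (nonempty_fr _).some (P := Pw D) (Pw_pow f.L hl h)).2
  have h2 := And.intro (lev_pc hq f (P := Pw D) Pw_one) (lev_ord hq f (P := Pw D) Pw_one).2
  obtain ⟨R, hR⟩ := dvd_of_values (g := (Sm (Pw D) (sgZ D)).map (Int.castRingHom ℚ))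
    (f := (Sm (Pw D) 1).map (Int.castRingHom ℚ))
    ((Polynomial.map_ne_zero_iff (RingHom.injective_int (Int.castRingHom ℚ))).2 fun e => h2.2 (by rw [e, eval_zero])) fun B =>
      ⟨p ^ (f.e * B), (Nat.le_mul_of_pos_left _ f.L.e_pos).trans_lt (Nat.lt_pow_self hp.one_lt), pc p (GF (F ^ (1 + f.d * B)) G), by
        rw [show ((p ^ (f.e * B) : ℕ) : ℚ) = (((p : ℤ) ^ (f.e * B) : ℤ) : ℚ) by simp, eval_map_cast, eval_map_cast,
          ← Int.cast_mul]
        exact congrArg _ (h1 _ B (by omega) rfl).1.symm⟩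
  have h3 : ∀ t n : ℤ, n * (Sm (Pw D) 1).eval t = (Sm (Pw D) (sgZ D)).eval t ∧ (Sm (Pw D) 1).eval t ≠ 0 →
      R.eval (t : ℚ) = n := fun t n h => by
    have h4 := congrArg (eval (t : ℚ)) hR
    rw [eval_mul, eval_map_cast, eval_map_cast, ← h.1, Int.cast_mul, mul_comm] at h4
    exact (mul_left_cancel₀ (Int.cast_ne_zero.2 h.2) h4).symm
  have h4 := h3 _ _ h2
  have h5 := fun l j hl h => h3 _ _ (h1 l j hl h)
  obtain ⟨c, n, u, -, h6, h7, rfl⟩ := exists_form (g := R) fun e => by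
    rw [e, eval_zero] at h4
    exact pow_ne_zero _ hp.ne_zero (by exact_mod_cast h4.symm)
  obtain ⟨a, -, rfl⟩ := Polynomial.isUnit_iff.1 (isUnit_of_dvd_one (dvd_of_map_dvd (n := c.den) h6
    (Nat.cast_ne_zero.2 c.den_ne_zero) (dvd_of_pow_values hp h7 fun B => by
      have h8 := h5 _ (B + 1) (by omega) rfl
      rw [eval_mul, eval_C, eval_map_cast, eval_mul] at h8
      refine ⟨f.e * (B + 1), (Nat.card (GF (F ^ (1 + f.d * (B + 1))) G)).factorization p,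
        (Nat.lt_succ_self B).trans_le (Nat.le_mul_of_pos_left _ f.L.e_pos),
        c.num * (X ^ n : ℤ[X]).eval ((p : ℤ) ^ (f.e * (B + 1))), Int.cast_injective (α := ℚ) ?_⟩
      rw [mul_one, eval_C, ← Nat.cast_pow, Int.cast_mul, ← pc, ← h8, Int.cast_mul, Int.cast_mul, Int.cast_mul, Int.cast_natCast,
        ← Rat.den_mul_eq_num]
      ring)))
  refine ⟨n, fun l j hl h => Int.cast_injective (α := ℚ) ?_⟩
  rw [← h5 l j hl h, Int.cast_mul, ← h4, eval_mul, eval_mul, eval_C, eval_C, eval_map_cast, eval_map_cast]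
  simp [mul_assoc, mul_comm]

/-- **The order polynomial.** -/
theorem exists_card : ∃ (n : ℕ) (Q : ℤ[X]), IsUnit (Q.coeff 0) ∧ Q.eval 1 = pc' p (GF F G) ∧
    ∀ (l j : ℕ) (_ : 0 < l), l = 1 + f.d * j → Q.eval ((p : ℤ) ^ (f.e * j)) = pc' p (GF (F ^ l) G) ∧
      eval ((p : ℤ) ^ (f.e * j)) (C (pc p (GF F G) : ℤ) * X ^ n * Q) = Nat.card (GF (F ^ l) G) := by
  classical
  have := Fintype.ofFinite D.W
  obtain ⟨n, hn⟩ := exists_pc hq f
  obtain ⟨Q, h1, h2⟩ := exists_ord hq f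
  refine ⟨n, Q, ?_, h1, fun l j hl h => ⟨h2 l j hl h, ?_⟩⟩
  · have h3 : C (Nat.card D.W : ℤ) * ∏ w, Pw D w = Q * Sm (Pw D) 1 :=
      eq_of_levels (Fact.out : p.Prime).one_lt f.L.e_pos fun B => ⟨B + 1, Nat.lt_succ_self B, by
        rw [eval_mul, eval_mul, eval_C, h2 _ (B + 1) (by omega) rfl]
        exact (lev_ord (D := D.pow (show 0 < 1 + f.d * (B + 1) by omega)) (pow_QS hq _) (nonempty_fr _).some (P := Pw D)
          (Pw_pow f.L _ rfl)).1⟩
    have h4 := congrArg (coeff · 0) h3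
    simp only [mul_coeff_zero, coeff_C_zero] at h4
    rw [Sm, finsetSum_coeff, Finset.sum_congr rfl (g := fun _ => (Pw D 1).coeff 0 ^ (Fintype.card D.W - 1)) fun w _ => by
      rw [Pi.one_apply, C_1, one_mul, coeff_zero_prod, Finset.prod_congr rfl fun v _ => (Pw_zero v).1, Finset.prod_const,
        Finset.card_erase_of_mem (Finset.mem_univ _), Finset.card_univ], Finset.sum_const, Finset.card_univ, nsmul_eq_mul,
      coeff_zero_prod, Nat.card_eq_fintype_card, mul_left_comm] at h4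
    exact isUnit_of_mul_isUnit_left (mul_left_cancel₀ (Nat.cast_ne_zero.2 Fintype.card_ne_zero) h4 ▸
      IsUnit.prod_univ_iff.2 fun w => (Pw_zero w).2)
  · rw [eval_mul, eval_mul, eval_C, eval_pow, eval_X, ← hn l j hl h, h2 l j hl h, ← Nat.cast_mul, pc_mul_pc']

variable [Fintype ↥(GF F G)] {χ : GF F G → ℂ} {g g' : ℚ[X]}

/-- the degree polynomial gives the degree of every lift -/
theorem deg_lev (hL : LfD f χ g) (hχ : IsGeneralizedCharacter (GF F G) χ) {l j : ℕ} (hl : 0 < l) (h : l = 1 + f.d * j)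
    [Fintype ↥(GF (F ^ l) G)] (f' : Fr (D.pow hl)) {χ' : GF (F ^ l) G → ℂ} {ε : ℂ} (hε : ε = 1 ∨ ε = -1)
    (hm : ∀ w c, classInner χ' (RW f' w c) = ε * classInner χ (RW f w c)) : ε * χ' 1 = aeval ((p : ℂ) ^ (f.e * j)) g := by
  have := Fintype.ofFinite D.W
  choose m hm' using tot_int f hχ
  have h1 : ∀ (l j : ℕ) (hl : 0 < l) (_ : l = 1 + f.d * j) [Fintype ↥(GF (F ^ l) G)] (f' : Fr (D.pow hl))
      (χ' : GF (F ^ l) G → ℂ) (ε : ℂ), (ε = 1 ∨ ε = -1) →
      (∀ w c, classInner χ' (RW f' w c) = ε * classInner χ (RW f w c)) →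
      ε * χ' 1 * ((Sm (Pw D) 1).eval ((p : ℤ) ^ (f.e * j)) : ℤ) = ((Sm (Pw D) m).eval ((p : ℤ) ^ (f.e * j)) : ℤ) :=
    fun l j hl h _ f' χ' ε h4 h5 => by
      have h7 := lev_deg (D := D.pow hl) (pow_QS hq hl) f' (P := Pw D) (Pw_pow f.L hl h) (χ := χ') (ε := ε) (m := m)
        fun w => by rw [← hm', mul_finsum]; exact finsum_congr (h5 w)
      rw [mul_assoc]
      refine (congrArg (ε * ·) h7).trans ?_
      rcases h4 with rfl | rfl <;> simp
  have h2 : g * (Sm (Pw D) 1).map (Int.castRingHom ℚ) = (Sm (Pw D) m).map (Int.castRingHom ℚ) :=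
    eq_of_levels (Fact.out : p.Prime).one_lt f.L.e_pos fun B => by
      obtain ⟨l, j, hl, i, f', χ', ε, h3, -, h4, -, h5, h6, h7⟩ := hL (1 + f.d * B) 1 one_ne_zero
      have h8 := h1 l j hl h4 f' χ' ε h5 h6
      refine ⟨j, lt_of_mul_lt_mul_left (a := f.d) (by omega) (Nat.zero_le _), ?_⟩
      rw [h7, aeval_lev] at h8
      rw [show ((p : ℚ) ^ (f.e * j)) = (((p : ℤ) ^ (f.e * j) : ℤ) : ℚ) by simp, eval_mul, eval_map_cast, eval_map_cast]
      exact_mod_cast h8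
  have h3 := congrArg (eval (((p : ℤ) ^ (f.e * j) : ℤ) : ℚ)) h2
  rw [eval_mul, eval_map_cast, eval_map_cast] at h3
  refine mul_right_cancel₀ (Int.cast_ne_zero.2
    (lev_ord (D := D.pow hl) (pow_QS hq hl) f' (P := Pw D) (Pw_pow f.L hl h)).2) ((h1 l j hl h f' χ' ε hε hm).trans ?_)
  rw [aeval_lev]
  exact_mod_cast h3.symm

theorem lfD_unique (hL : LfD f χ g) (hL' : LfD f χ g') (hχ : IsGeneralizedCharacter (GF F G) χ) : g = g' :=
  eq_of_levels (Fact.out : p.Prime).one_lt f.L.e_pos fun B => by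
    obtain ⟨l, j, hl, i, f', χ', ε, h3, -, h4, -, h5, h6, h7⟩ := hL (1 + f.d * B) 1 one_ne_zero
    have h8 := deg_lev hq f hL' hχ hl h4 f' h5 h6
    refine ⟨j, lt_of_mul_lt_mul_left (a := f.d) (by omega) (Nat.zero_le _), ?_⟩
    rw [h7, aeval_lev, aeval_lev] at h8
    rw [show ((p : ℚ) ^ (f.e * j)) = (((p : ℤ) ^ (f.e * j) : ℤ) : ℚ) by simp]
    exact_mod_cast h8

end Cfsg.Agent.KM.Deg
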