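import Cfsg.Agent.KM.Deg.Defs
import Cfsg.Agent.LV.Lift.Bij

/-!
# KM: the boxes `BoxBij` and `BoxLf` (helper12)
-/

set_option autoImplicit false

namespace Cfsg.Agent.KM

open Cfsg Cfsg.Agent.DL Cfsg.Agent.DL.Asm Cfsg.Agent.LV.Lift

theorem Deg.boxBij : Deg.BoxBij := by
  intro p _ k _ _ Y _ N _ _ ρ F G _ X f _ _
  obtain ⟨B, M, hM, h⟩ := lp_of_large f
  refine ⟨B, M, hM, fun l hl h1 h2 => ?_⟩
  have := finite_GF (X.pow hl.pos)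
  have := Fintype.ofFinite (GF (F ^ l) G)
  obtain ⟨f', e, h3, h4, h5⟩ := lift_bij (h l hl h1 h2)
  exact ⟨this, f', e, h3, h4, fun χ => (h5 χ).2⟩

theorem Ht.boxLf : Ht.BoxLf := by
  intro p _ k _ _ Y _ N _ _ ρ F G _ X f _ _ χ hχ B M hM
  obtain ⟨l, h1, h2, hl⟩ := exists_lp f B hM
  have := finite_GF (X.pow hl.pos)
  have := Fintype.ofFinite (GF (F ^ l) G)
  obtain ⟨f', e, -, h4, h5⟩ := lift_bij hl
  obtain ⟨h6, ε, h7, h8⟩ := h5 ⟨χ, hχ⟩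
  exact ⟨l, hl.pos, this, f', e ⟨χ, hχ⟩, ε, h1, h2, (e _).2, h7, h8, hl.prime, (h4 _).2 ⟨_, rfl⟩, h6⟩

end Cfsg.Agent.KM
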