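import Cfsg.Agent.KM.Deg.Defs
import Cfsg.Agent.Characters.Core
import Cfsg.Agent.Characters.Central

/-!
# KM: the number of solutions of the twisted surface relation (helper20)
-/

set_option autoImplicit false
set_option linter.unusedSectionVars false

namespace Cfsg.Agent.KM.Deg

open Cfsg Cfsg.Agent.Characters
open scoped ComplexConjugate

namespace Cnt

variable {H : Type} [Group H] [Fintype H]

/-- the product of the commutators -/
def cm {H : Type} [Group H] {g : ℕ} (z : Fin g → H × H) : H :=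
  (List.ofFn fun i => (z i).1 * (z i).2 * (z i).1⁻¹ * (z i).2⁻¹).prod

theorem sum_cm {χ : H → ℂ} (hχ : IsIrrCharacter H χ) (g : ℕ) (y : H) :
    ∑ z : Fin g → H × H, χ (cm z * y) = ((Nat.card H : ℂ) / χ 1) ^ (2 * g) * χ y := by
  induction g with
  | zero => simp [cm]
  | succ g ih =>
    rw [← (Fin.consEquiv fun _ : Fin (g + 1) => H × H).sum_comp, Fintype.sum_prod_type, Finset.sum_comm]
    have h1 : ∀ z : Fin g → H × H, ∑ a : H × H, χ (cm ((Fin.consEquiv fun _ : Fin (g + 1) => H × H) (a, z)) * y) =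
        ((Nat.card H : ℂ) / χ 1) ^ 2 * χ (cm z * y) := by
      intro z
      rw [Fintype.sum_prod_type, div_pow, div_mul_eq_mul_div, ← Central.sum_char_commutator_mul hχ]
      refine Finset.sum_congr rfl fun a _ => Finset.sum_congr rfl fun b _ => ?_
      simp [cm, Fin.consEquiv, List.ofFn_succ, mul_assoc]
    rw [Finset.sum_congr rfl fun z _ => h1 z, ← Finset.mul_sum, ih]
    ring

open Classical in
theorem sum_tw {χ : H → ℂ} (hχ : IsIrrCharacter H χ) (φ : H →* H) (hφ : Function.Surjective φ) :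
    ∑ x : H × H, χ (x.1 * φ x.2 * x.1⁻¹ * x.2⁻¹) = if χ ∘ φ = χ then (Nat.card H : ℂ) ^ 2 / χ 1 else 0 := by
  have h1 := Core.classInner_irr (Core.isIrr_comp φ hφ hχ) hχ
  have h0 : (Nat.card H : ℂ) ≠ 0 := Nat.cast_ne_zero.2 Nat.card_pos.ne'
  rw [classInner, inv_mul_eq_iff_eq_mul₀ h0] at h1
  rw [Fintype.sum_prod_type, Finset.sum_comm]
  have h2 : ∀ b : H, ∑ u : H, χ (u * φ b * u⁻¹ * b⁻¹) = (Nat.card H : ℂ) / χ 1 * ((χ ∘ φ) b * conj (χ b)) := by
    intro b
    rw [Central.sum_char_conj_mul hχ, Core.isCharacter_apply_inv (Core.isIrr_isCharacter hχ), Function.comp_apply]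
    ring
  rw [Finset.sum_congr rfl fun b _ => h2 b, ← Finset.mul_sum, h1]
  split_ifs
  · ring
  · simp

open Classical in
theorem reg [Fintype (IrrCharacter H)] (t : H) :
    (if t = 1 then (Nat.card H : ℂ) else 0) = ∑ χ : IrrCharacter H, (χ : H → ℂ) 1 * (χ : H → ℂ) t := by
  have h0 : (Nat.card H : ℂ) ≠ 0 := Nat.cast_ne_zero.2 Nat.card_pos.ne'
  have hc : IsClassFunction H fun t => if t = 1 then (Nat.card H : ℂ) else 0 := fun x y => by
    simp only [conj_eq_one_iff]
  have h1 := congrFun (Core.classFunction_eq_sum hc) t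
  rw [h1, Finset.sum_apply]
  refine Finset.sum_congr rfl fun χ _ => ?_
  rw [Pi.smul_apply, smul_eq_mul, classInner]
  congr 1
  simp only [ite_mul, zero_mul, Finset.sum_ite_eq', Finset.mem_univ, if_true]
  rw [inv_mul_cancel_left₀ h0, ← Core.isCharacter_apply_inv (Core.isIrr_isCharacter χ.2), inv_one]

open Classical in
theorem count [Fintype (IrrCharacter H)] (φ : H →* H) (hφ : Function.Surjective φ) (g : ℕ) :
    (Nat.card {z : (Fin g → H × H) × H × H // cm z.1 * (z.2.1 * φ z.2.2 * z.2.1⁻¹ * z.2.2⁻¹) = 1} : ℂ) = Nat.card H *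
      ∑ χ : IrrCharacter H, if (χ : H → ℂ) ∘ φ = χ then ((Nat.card H : ℂ) / (χ : H → ℂ) 1) ^ (2 * g) else 0 := by
  have h0 : (Nat.card H : ℂ) ≠ 0 := Nat.cast_ne_zero.2 Nat.card_pos.ne'
  refine mul_left_cancel₀ h0 ?_
  rw [Nat.card_eq_fintype_card (α := {z // _}), Fintype.card_subtype, Finset.card_filter, Nat.cast_sum, Finset.mul_sum]
  simp only [Nat.cast_ite, Nat.cast_one, Nat.cast_zero, mul_ite, mul_one, mul_zero, reg]
  rw [Finset.sum_comm, Finset.mul_sum, Finset.mul_sum]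
  refine Finset.sum_congr rfl fun χ _ => ?_
  rw [← Finset.mul_sum, Fintype.sum_prod_type_right]
  simp only [sum_cm χ.2 g]
  rw [← Finset.mul_sum, sum_tw χ.2 φ hφ]
  have h1 := Central.irr_one_ne_zero χ.2
  split_ifs
  · field_simp
  · simp

end Cnt

/-- **D1** -/
theorem boxCnt : BoxCnt := by
  intro Y _ F S _ hS g
  classical
  have : Fintype S := Fintype.ofFinite S
  have := Core.finite_irr (G := S)
  have : Fintype (IrrCharacter S) := Fintype.ofFinite _
  let φ : S →* S := (F.toMonoidHom.comp S.subtype).codRestrict S fun y => hS y y.2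
  have hφ : Function.Surjective φ :=
    Finite.surjective_of_injective fun a b h => Subtype.ext (F.injective (congrArg Subtype.val h))
  have h1 : ∀ z : Fin g → S × S, ((Cnt.cm z : S) : Y) =
      (List.ofFn fun i => ((z i).1 : Y) * (z i).2 * ((z i).1 : Y)⁻¹ * ((z i).2 : Y)⁻¹).prod := fun z => by
    rw [Cnt.cm, ← S.subtype_apply, map_list_prod, List.map_ofFn]
    rfl
  have h2 : Nat.card {z : (Fin g → S × S) × S × S // Cnt.cm z.1 * (z.2.1 * φ z.2.2 * z.2.1⁻¹ * z.2.2⁻¹) = 1} =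
      Nat.card (Sol F S g) := by
    refine Nat.card_eq_of_bijective (fun z => ⟨(fun i => ((z.1.1 i).1, (z.1.1 i).2), z.1.2.1, z.1.2.2),
      fun i => ⟨(z.1.1 i).1.2, (z.1.1 i).2.2⟩, z.1.2.1.2, z.1.2.2.2, ?_⟩) ⟨fun z z' h => ?_, fun z => ?_⟩
    · have h3 := congrArg Subtype.val z.2
      rw [Subgroup.coe_mul, h1] at h3
      exact h3
    · have h3 := congrArg Subtype.val h
      simp only [Prod.mk.injEq] at h3
      refine Subtype.ext (Prod.ext (funext fun i => ?_) (Prod.ext (Subtype.ext h3.2.1) (Subtype.ext h3.2.2)))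
      have h4 := congrFun h3.1 i
      exact Prod.ext (Subtype.ext (congrArg Prod.fst h4)) (Subtype.ext (congrArg Prod.snd h4))
    · obtain ⟨z, h3, h4, h5, h6⟩ := z
      refine ⟨⟨(fun i => (⟨_, (h3 i).1⟩, ⟨_, (h3 i).2⟩), ⟨_, h4⟩, ⟨_, h5⟩), Subtype.ext ?_⟩, rfl⟩
      rw [Subgroup.coe_mul, h1]
      exact h6
  rw [← h2, Cnt.count φ hφ, finsum_eq_sum_of_fintype]
  congr 1
  refine Finset.sum_congr rfl fun χ _ => ?_
  rw [finsum_eq_if]
  refine if_congr ⟨fun h a b e => ?_, fun h => funext fun a => h a _ rfl⟩ rfl rfl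
  rw [show b = φ a from Subtype.ext e]
  exact congrFun h a

end Cfsg.Agent.KM.Deg
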