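import Cfsg.Agent.KM.Deg.Defs
import Cfsg.Agent.DL.Gd.Dat
import Cfsg.Agent.DL.Dw.Main

/-!
# KM, rationality of the numbers of solutions (helper7)

* `expZ_nt` : a self-map of a constructible set whose `d`-th power is the `p ^ (n * d)`-power map;
* `expZ_tuple` : tuples of elements of `G` whose matrices lie in a constructible set;
* `boxDw`.
-/

set_option autoImplicit false
set_option linter.unusedSectionVars false

namespace Cfsg.Agent.KM.Deg

open Cfsg Cfsg.Agent.DL Cfsg.Agent.DL.Lef Cfsg.Agent.DL.Cn Cfsg.Agent.DL.Gd Cfsg.Agent.LangThm Polynomial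

variable {p : ℕ} [Fact p.Prime] {k : Type} [Field k] [CharP k p] [IsAlgClosed k]

namespace Dwk

theorem exists_roots {q : ℕ} (h1 : 1 < q) (hq : p ∣ q) : ∃ s : Finset k, s.card = q ∧ ∀ b ∈ s, b ^ q = b := by
  classical
  refine ⟨(X ^ q - X : k[X]).roots.toFinset, ?_, fun b hb => ?_⟩
  · rw [Multiset.toFinset_card_of_nodup (nodup_roots (galois_poly_separable p q hq)),
      ← (IsAlgClosed.splits _).natDegree_eq_card_roots, FiniteField.X_pow_card_sub_X_natDegree_eq k h1]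
  · have := (mem_roots'.1 (Multiset.mem_toFinset.1 hb)).2
    rwa [IsRoot, eval_sub, eval_pow, eval_X, sub_eq_zero] at this

theorem expZ_nt (lf : ∀ a : k, ∃ m, 0 < m ∧ a ^ p ^ m = a) {X I : Type} [Fintype I] (S : Set X) (Φ : X → X)
    (hS : ∀ x ∈ S, Φ x ∈ S) (c : X → I → k) (hc : Set.InjOn c S) {n e : ℕ} (hn : 0 < n)
    (hΦ : ∀ x ∈ S, ∀ i, c (Φ^[e + 1] x) i = c x i ^ p ^ (n * (e + 1)))
    (hgr : Constr k {u : Fin (e + 1) → I → k | ∃ x ∈ S, u = fun j : Fin (e + 1) => c (Φ^[j] x)}) :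
    ExpZ fun m => (Nat.card {x // x ∈ S ∧ Φ^[m] x = x} : ℂ) := by
  have hp : p.Prime := Fact.out
  have hQ : 1 < p ^ n := Nat.one_lt_pow hn.ne' hp.one_lt
  obtain ⟨s, h1, h2⟩ := exists_roots (k := k) (p := p) (q := (p ^ n) ^ (e + 1)) (Nat.one_lt_pow e.succ_ne_zero hQ)
    (dvd_pow (dvd_pow_self p hn.ne') e.succ_ne_zero)
  let T : (Fin (e + 1) → I → k) → s × I → k := fun u z => ∑ j, ((z.1 : k) * u j z.2) ^ (p ^ n) ^ (e - j)
  have hT : PolyMap k T := polyMap_pi fun z => PolyMap.sum _ fun j _ =>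
    ((polyMap_const _).mul ((polyMap_apply j).apply z.2)).pow _
  have key := spectral_of_constr' (K := Unit) (permDwork_of_box Dw.boxDwork p k lf) lf hn S (fun _ x => x) (fun _ _ => rfl)
    (fun _ _ _ _ => rfl) (fun _ _ h => h) Φ hS (fun _ _ _ => rfl) (fun x => T fun j => c (Φ^[j] x)) (fun x hx y hy h => ?_)
    (fun x hx z => ?_) fun _ => (hgr.image (hT.prodMk hT)).congr fun z => ?_
  · refine (key.expZ _ (isCharacter_units_hom 1)).congr fun m _ => ?_
    simp [Characters.Core.classInner_def]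
  · refine hc hx hy (funext fun i => ?_)
    have h4 : (∑ j : Fin (e + 1), monomial ((p ^ n) ^ (e - j))
        (c (Φ^[j] x) i ^ (p ^ n) ^ (e - j) - c (Φ^[j] y) i ^ (p ^ n) ^ (e - j)) : k[X]) = 0 := by
      refine eq_zero_of_natDegree_lt_card_of_eval_eq_zero' _ s (fun b hb => ?_) (lt_of_le_of_lt
        (natDegree_sum_le_of_forall_le _ _ fun j _ => (natDegree_monomial_le _).trans
          (Nat.pow_le_pow_right hQ.le (Nat.sub_le e j))) (h1 ▸ Nat.pow_lt_pow_right hQ e.lt_succ_self))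
      rw [eval_finsetSum, ← sub_eq_zero.2 (congrFun h (⟨b, hb⟩, i)), ← Finset.sum_sub_distrib]
      exact Finset.sum_congr rfl fun j _ => by rw [eval_monomial, mul_pow, mul_pow]; ring
    have h5 := congrArg (fun P => coeff P ((p ^ n) ^ e)) h4
    simp only [finsetSum_coeff, coeff_monomial, coeff_zero] at h5
    rw [Finset.sum_eq_single 0 (fun j _ hj => if_neg fun m => hj (Fin.ext (by
      have := Nat.pow_right_injective hQ m
      have := j.2
      simp only [Fin.val_zero]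
      omega))) (by simp), if_pos (by simp), ← pow_mul, ← sub_pow_char_pow] at h5
    exact sub_eq_zero.1 (pow_eq_zero_iff (pow_pos hp.pos _).ne' |>.1 h5)
  · simp only [T]
    rw [sum_pow_char_pow, Fin.sum_univ_castSucc, Fin.sum_univ_succ, add_comm]
    congr 1
    · rw [← Function.iterate_succ_apply, Fin.val_last, hΦ x hx, Nat.sub_self, pow_zero, pow_one, ← pow_mul, ← pow_succ,
        Fin.val_zero, Nat.sub_zero, mul_pow, h2 _ z.1.2, pow_mul]
      rfl
    · refine Finset.sum_congr rfl fun j _ => ?_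
      rw [← pow_mul _ _ (p ^ n), ← pow_succ, Fin.val_succ, Fin.val_castSucc, show e - (j + 1) + 1 = e - j by have := j.2; omega]
      rfl
  · simp only [Set.mem_image, Set.mem_ofPred_eq]
    exact ⟨fun ⟨_, ⟨x, hx, m⟩, m'⟩ => ⟨x, hx, by rw [← m', m]⟩, fun ⟨x, hx, m⟩ => ⟨_, ⟨x, hx, rfl⟩, m.symm⟩⟩

variable {Y : Type} [Group Y] {N : Type} [Fintype N] [DecidableEq N] {ρ : Y →* GL N k} {F : MulAut Y} {G : Subgroup Y}

/-- tuples of elements of `G` whose matrices lie in a constructible set -/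
theorem expZ_tuple (D : Datum p ρ F G) (h : NT p ρ F) {J : Type} [Fintype J] {C : Set (J → Matrix N N k)} (hC : Constr k C)
    (hS : ∀ w : J → Y, (∀ j, w j ∈ G) → (fun j => rhoM ρ (w j)) ∈ C → (fun j => rhoM ρ (F (w j))) ∈ C) :
    ExpZ fun m => (Nat.card {w : J → Y // (∀ j, w j ∈ GF (F ^ m) G) ∧ (fun j => rhoM ρ (w j)) ∈ C} : ℂ) := by
  obtain ⟨n, d, hn, hd, h⟩ := h
  obtain ⟨e, rfl⟩ := Nat.exists_eq_succ_of_ne_zero hd.ne'
  have hi := rhoM_injective D.amb.inj
  have h1 : ∀ (m : ℕ) (w : J → Y), (fun (w : J → Y) j => F (w j))^[m] w = fun j => (F ^ m) (w j) := fun m w => by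
    induction m with
    | zero => rfl
    | succ m ih => rw [Function.iterate_succ_apply', ih, pow_succ']; rfl
  refine (expZ_nt D.amb.lf {w : J → Y | (∀ j, w j ∈ G) ∧ (fun j => rhoM ρ (w j)) ∈ C} (fun w j => F (w j))
    (fun w hw => ⟨fun j => F_mem_G D (hw.1 j), hS w hw.1 hw.2⟩) (fun w (z : J × N × N) => rhoM ρ (w z.1) z.2.1 z.2.2)
    (fun w _ w' _ m => funext fun j => hi (Matrix.ext fun a b => congrFun m (j, a, b))) (e := e) hn (fun w _ z => ?_) ?_).congr
    fun m _ => congrArg Nat.cast (Nat.card_congr (Equiv.subtypeEquivRight fun w => ?_))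
  · rw [h1, rhoM_apply, h]
    exact co_frob p _ (ρ (w z.1)) z.2
  · let M : (Fin (e + 1) → J × N × N → k) → Fin (e + 1) → J → Matrix N N k := fun u i j => Matrix.of fun a b => u i (j, a, b)
    have hM : ∀ i j, PolyMap k fun u => M u i j := fun i j => polyMap_matrix fun a b =>
      show PolyMap k fun u : Fin (e + 1) → J × N × N → k => u i (j, a, b) from (polyMap_apply i).apply (j, a, b)
    refine ((Constr.forall_fin fun i : Fin (e + 1) => Constr.forall_fin fun j =>
      Constr.mem (cg_graph_pow D i) ((hM 0 j).prodMk (hM i j))).and (hC.mem (polyMap_pi (hM 0)))).congr fun u => ⟨fun hu => ?_, ?_⟩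
    · choose w h2 h3 using fun j => hu.1 0 j
      have h4 : ∀ j, rhoM ρ (w j) = M u 0 j := fun j => congrArg Prod.fst (h3 j)
      refine ⟨w, ⟨h2, (funext h4).symm ▸ hu.2⟩, funext fun i => funext fun z => ?_⟩
      obtain ⟨y, -, h5⟩ := hu.1 i z.1
      obtain rfl : y = w z.1 := hi ((congrArg Prod.fst h5).trans (h4 _).symm)
      rw [h1]
      exact (congrFun (congrFun (congrArg Prod.snd h5) z.2.1) z.2.2).symm
    · rintro ⟨w, hw, rfl⟩
      exact ⟨fun i j => ⟨w j, hw.1 j, by simp only [M, h1]; rfl⟩, hw.2⟩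
  · rw [h1, funext_iff]
    exact ⟨fun m => ⟨fun j => ⟨m.1.1 j, m.2 j⟩, m.1.2⟩, fun m => ⟨⟨fun j => (m.1 j).1, m.2⟩, fun j => (m.1 j).2⟩⟩

/-- the tuples as functions -/
def tup (Y : Type) (g : ℕ) : ((Fin g ⊕ Fin g) ⊕ Bool → Y) ≃ (Fin g → Y × Y) × Y × Y where
  toFun w := (fun i => (w (.inl (.inl i)), w (.inl (.inr i))), w (.inr false), w (.inr true))
  invFun z := Sum.elim (Sum.elim (fun i => (z.1 i).1) fun i => (z.1 i).2) fun b => if b then z.2.2 else z.2.1
  left_inv w := funext fun j => by rcases j with (j | j) | (_ | _) <;> rfl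
  right_inv _ := rfl

end Dwk

open Dwk in
/-- **Box D2.** -/
theorem boxDw : BoxDw := by
  intro p _ k _ _ Y _ N _ _ ρ F G _ D h g
  have hi := rhoM_injective D.amb.inj
  let J := (Fin g ⊕ Fin g) ⊕ Bool
  let C : Set (J → Matrix N N k) := {A | ∃ B : (J → Matrix N N k) × Matrix N N k, (∀ j, A j * B.1 j = 1) ∧
    (A (.inr true), B.2) ∈ (rhoM ρ).prod ((rhoM ρ).comp F.toMonoidHom) '' G ∧
    ((List.finRange g).map fun i => A (.inl (.inl i)) * A (.inl (.inr i)) * B.1 (.inl (.inl i)) * B.1 (.inl (.inr i))).prod *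
      (A (.inr false) * B.2 * B.1 (.inr false) * B.1 (.inr true)) = 1}
  have h1 : ∀ j, PolyMap k fun z : (J → Matrix N N k) × (J → Matrix N N k) × Matrix N N k => z.1 j :=
    fun j => polyMap_id.fst.apply j
  have h2 : ∀ j, PolyMap k fun z : (J → Matrix N N k) × (J → Matrix N N k) × Matrix N N k => z.2.1 j :=
    fun j => polyMap_id.snd.fst.apply j
  have h3 : PolyMap k fun z : (J → Matrix N N k) × (J → Matrix N N k) × Matrix N N k => z.2.2 := polyMap_id.snd.snd
  have hC : Constr k C := Constr.ex ((Constr.forall_fin fun j => Constr.eq ((h1 j).mul (h2 j)) (polyMap_const _)).and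
    ((Constr.mem (cg_graph D) ((h1 _).prodMk h3)).and (Constr.eq ((PolyMap.list_prod _ fun i _ =>
      (((h1 _).mul (h1 _)).mul (h2 _)).mul (h2 _)).mul ((((h1 _).mul h3).mul (h2 _)).mul (h2 _))) (polyMap_const _))))
  have h4 : ∀ w : J → Y, w (.inr true) ∈ G → ((fun j => rhoM ρ (w j)) ∈ C ↔
      (List.ofFn fun i => w (.inl (.inl i)) * w (.inl (.inr i)) * (w (.inl (.inl i)))⁻¹ * (w (.inl (.inr i)))⁻¹).prod *
        (w (.inr false) * F (w (.inr true)) * (w (.inr false))⁻¹ * (w (.inr true))⁻¹) = 1) := fun w hw => by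
    rw [← hi.eq_iff, map_one, map_mul, map_list_prod, List.ofFn_eq_map, List.map_map]
    simp only [map_mul, Function.comp_def]
    refine ⟨fun ⟨B, k1, ⟨y, _, k2⟩, k3⟩ => ?_, fun k1 => ⟨(fun j => rhoM ρ (w j)⁻¹, rhoM ρ (F (w (.inr true)))),
      fun j => by rw [← map_mul, mul_inv_cancel, map_one], ⟨_, hw, rfl⟩, k1⟩⟩
    obtain rfl : y = w (.inr true) := hi (congrArg Prod.fst k2)
    have k4 : ∀ j, rhoM ρ (w j)⁻¹ = B.1 j := fun j => by
      rw [← mul_one (rhoM ρ _), ← k1 j, ← mul_assoc, ← map_mul, inv_mul_cancel, map_one, one_mul]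
    simp only [k4, show rhoM ρ (F (w (.inr true))) = B.2 from congrArg Prod.snd k2]
    exact k3
  refine (expZ_tuple D h hC fun w hw k1 => (h4 (fun j => F (w j)) (F_mem_G D (hw _))).2 ?_).congr
    fun m _ => congrArg Nat.cast (Nat.card_congr ((tup Y g).subtypeEquiv fun w => ⟨fun k1 => ?_, fun k1 => ?_⟩))
  · have k2 := congrArg F ((h4 w (hw _)).1 k1)
    rw [map_one, map_mul, map_list_prod, List.map_ofFn] at k2
    simpa only [map_mul, map_inv, Function.comp_def] using k2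
  · exact ⟨fun i => ⟨k1.1 _, k1.1 _⟩, k1.1 _, k1.1 _, (h4 w (k1.1 _).1).1 k1.2⟩
  · refine ⟨fun j => ?_, (h4 w k1.2.2.1.1).2 k1.2.2.2⟩
    rcases j with (j | j) | (_ | _)
    exacts [(k1.1 j).1, (k1.1 j).2, k1.2.1, k1.2.2.1]

end Cfsg.Agent.KM.Deg
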