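import Cfsg.Agent.KM.Deg.Ord
import Cfsg.Agent.DL.Gd.Dat
import Cfsg.Agent.H593.GlaubermanP

/-!
# KM, the content of the degree polynomial from the boxes (helper63)

* `lfE_of_bij` : the lifts;
* `codeg` : the degree polynomial divides the order polynomial with an integral quotient;
* `deg_of_dw`, `boxDEG_of` : the content of the degree polynomial is prime to `l ≠ p`;
* `deg_mul_dvd`, `boxDvd_of` : the degree times the order of a torus in the support divides the order of the group;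
* `not_dvd_of_deg` : a torus which contains a Sylow `l`-subgroup in the support of `χ` forces a degree prime to `l`.
-/

set_option autoImplicit false
set_option linter.unusedSectionVars false

namespace Cfsg.Agent.KM.Deg

open Cfsg Cfsg.Agent.DL Cfsg.Agent.DL.PP Cfsg.Agent.DL.Uni Cfsg.Agent.KZ.Lie Cfsg.Agent.LV.One Cfsg.Agent.Characters.Core
  Polynomial

/-- the numbers of solutions at the large primes are values of an exponential sum with integer coefficients -/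
def DwP {Y : Type} [Group Y] (F : MulAut Y) (G : Subgroup Y) : Prop :=
  ∀ g : ℕ, ∃ (S : ℕ → ℂ) (B : ℕ), Lef.ExpZ S ∧ ∀ l : ℕ, l.Prime → B < l → S l = Nat.card (Sol F (GF (F ^ l) G) g)

theorem Dw.dwP {Y : Type} [Group Y] {F : MulAut Y} {G : Subgroup Y} (h : Dw F G) : DwP F G := fun g =>
  ⟨_, 0, h g, fun _ _ _ => rfl⟩

/-- the same up to a constant factor -/
def DwR {Y : Type} [Group Y] (F : MulAut Y) (G : Subgroup Y) : Prop :=
  ∃ R : ℕ, R ≠ 0 ∧ ∀ g : ℕ, ∃ (S : ℕ → ℂ) (B : ℕ), Lef.ExpZ S ∧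
    ∀ l : ℕ, l.Prime → B < l → S l = R * Nat.card (Sol F (GF (F ^ l) G) g)

theorem DwP.dwR {Y : Type} [Group Y] {F : MulAut Y} {G : Subgroup Y} (h : DwP F G) : DwR F G :=
  ⟨1, one_ne_zero, fun g => by simpa only [Nat.cast_one, one_mul] using h g⟩

variable {p : ℕ} [Fact p.Prime] {k : Type} [Field k] [CharP k p] {Y : Type} [Group Y] {N : Type} [Fintype N]
  [DecidableEq N] {ρ : Y →* GL N k} {F : MulAut Y} {G : Subgroup Y} [IsAlgClosed k] {D : Datum p ρ F G}

theorem F_mem_pow (D : Datum p ρ F G) (l : ℕ) : ∀ y ∈ GF (F ^ l) G, F y ∈ GF (F ^ l) G := fun y hy =>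
  ⟨Gd.F_mem_G D hy.1, mem_fix.2 (by
    rw [← MulAut.mul_apply, ← pow_succ, pow_succ', MulAut.mul_apply, mem_fix.1 hy.2])⟩

variable (hq : D.QS) (f : Fr D) [Fintype ↥(GF F G)] {χ : GF F G → ℂ} {g : ℚ[X]} {l : ℕ}
include hq

theorem lfE_of_bij (hB : BoxBij) (hχ : IsIrrCharacter (GF F G) χ) : LfE f χ := fun B M hM => by
  obtain ⟨B₀, M₀, hM₀, h⟩ := hB f hq
  obtain ⟨l, hl, h1, h2⟩ := Nat.exists_prime_gt_modEq_one (B + B₀) (mul_ne_zero hM hM₀)
  obtain ⟨i, f', e, -, -, h3⟩ := h l hl (by omega) (h2.of_mul_left _)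
  obtain ⟨ε, h4, h5⟩ := h3 ⟨χ, hχ⟩
  exact ⟨l, hl.pos, i, f', e ⟨χ, hχ⟩, ε, by omega, h2.of_mul_right _, (e _).2, h4, h5⟩

omit hq in
theorem lfD_dvd (hL : LfD f χ g) {O : ℤ[X]} (hO : ∀ (l j : ℕ) (_ : 0 < l), l = 1 + f.d * j →
    eval ((p : ℤ) ^ (f.e * j)) O = Nat.card (GF (F ^ l) G)) : g ∣ O.map (Int.castRingHom ℚ) := by
  have hp : p.Prime := Fact.out
  refine dvd_of_values (fun e => ?_) fun B => ?_
  · obtain ⟨l, j, hl, i, f', χ', ε, -, -, -, h5, h6, -, h7⟩ := hL 0 1 one_ne_zero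
    rw [e, map_zero] at h7
    exact mul_ne_zero (by rcases h6 with rfl | rfl <;> simp) (Blocks.Basic.irr_one_ne_zero h5) h7
  obtain ⟨l, j, hl, i, f', χ', ε, h3, -, h4, h5, h6, -, h7⟩ := hL (1 + f.d * B) 1 one_ne_zero
  have h8 : B < j := lt_of_mul_lt_mul_left (a := f.d) (by omega) (Nat.zero_le _)
  obtain ⟨η, rfl, hη⟩ : ∃ η : ℤ, ε = η ∧ η * η = 1 := by
    rcases h6 with rfl | rfl
    exacts [⟨1, by simp, by simp⟩, ⟨-1, by simp, by simp⟩]
  obtain ⟨n, hn⟩ := H593.GlaubermanP.charDegree_dvd h5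
  refine ⟨p ^ (f.e * j), h8.trans ((Nat.le_mul_of_pos_left _ f.L.e_pos).trans_lt (Nat.lt_pow_self hp.one_lt)), η * n, ?_⟩
  rw [aeval_lev, ← deg_cast (isIrr_isCharacter h5)] at h7
  have h9 : ((η * charDegree χ' : ℤ) : ℚ) = g.eval (((p : ℤ) ^ (f.e * j) : ℤ) : ℚ) := by exact_mod_cast h7
  rw [show ((p ^ (f.e * j) : ℕ) : ℚ) = (((p : ℤ) ^ (f.e * j) : ℤ) : ℚ) by simp, eval_map_cast, hO l j hl h4, ← h9, hn,
    ← Int.cast_mul]
  congr 1
  push_cast
  linear_combination (-(charDegree χ' : ℤ) * n) * hη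

/-- **The quotient of the order polynomial by the degree polynomial is integral.** -/
theorem codeg (h1 : BoxCnt) (h3 : BoxExp) (h4 : BoxPow) (hB : BoxBij) (hD : DwR F G) (hχ : IsIrrCharacter (GF F G) χ)
    (hL : LfD f χ g) {O : ℤ[X]} (hO : ∀ (l j : ℕ) (_ : 0 < l), l = 1 + f.d * j →
      eval ((p : ℤ) ^ (f.e * j)) O = Nat.card (GF (F ^ l) G)) :
    ∃ h : ℤ[X], g * h.map (Int.castRingHom ℚ) = O.map (Int.castRingHom ℚ) := by
  have hp : p.Prime := Fact.out
  have := finite_irr (G := GF F G)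
  have := Fintype.ofFinite (IrrCharacter ↥(GF F G))
  choose gs hgs _ using fun ψ : IrrCharacter ↥(GF F G) => exists_poly f hq (lfE_of_bij hq f hB ψ.2) (gen_of_irr ψ.2)
  choose x hx using fun ψ => lfD_dvd f (hgs ψ) hO
  obtain ⟨B, M, hM, h⟩ := hB f hq
  obtain ⟨R, hR, hD⟩ := hD
  choose S B' hS hS' using hD
  obtain ⟨y, hy⟩ := h4 _ x ((R : ℚ[X]) * O.map (Int.castRingHom ℚ)) (mul_ne_zero (Nat.cast_ne_zero.2 hR) <|
    (Polynomial.map_ne_zero_iff (RingHom.injective_int (Int.castRingHom ℚ))).2 fun e => by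
      have h5 := hO 1 0 one_pos rfl
      have := Asm.finite_GF (D.pow one_pos)
      rw [e, eval_zero] at h5
      exact Nat.card_pos.ne' (Nat.cast_eq_zero.1 h5.symm))
    (fun n => h3 _ (hS n) (p ^ f.e) f.d (B + B' n) M _ (Nat.one_lt_pow f.L.e_pos.ne' hp.one_lt) f.L.d_pos hM
      fun l j hl h5 h6 h7 => by
      obtain ⟨i, f', e, h8, h9, h10⟩ := h l hl (by omega) h6
      have h11 : aeval ((p : ℂ) ^ (f.e * j)) (O.map (Int.castRingHom ℚ)) = Nat.card (GF (F ^ l) G) := by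
        rw [aeval_lev, eval_map_cast, hO l j hl.pos h7]
        simp
      rw [hS' n l hl (by omega), h1 Y F _ (F_mem_pow D l) n, Nat.cast_pow, ← pow_mul, map_mul, map_mul, h11,
        map_sum, map_natCast, mul_assoc, finsum_congr fun ψ => finsum_congr_Prop (propext (h9 ψ)) fun _ => rfl, finsum_mem_range h8, finsum_eq_sum_of_fintype]
      refine congrArg _ (congrArg _ (Finset.sum_congr rfl fun ψ _ => ?_))
      obtain ⟨ε, h12, h13⟩ := h10 ψ
      rw [← h11, hx ψ, map_mul, ← deg_lev hq f (hgs ψ) (gen_of_irr ψ.2) hl.pos h7 f' h12 h13, map_pow, mul_right_comm,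
        mul_div_cancel_right₀ _ (Blocks.Basic.irr_one_ne_zero (e ψ).2), mul_pow, pow_mul ε]
      rcases h12 with rfl | rfl <;> simp) ⟨χ, hχ⟩
  exact ⟨y, by rw [← hy, lfD_unique hq f hL (hgs ⟨χ, hχ⟩) (gen_of_irr hχ), ← hx]⟩

/-- **The content of the degree polynomial.** -/
theorem deg_of_dwR (h1 : BoxCnt) (h3 : BoxExp) (h4 : BoxPow) (hB : BoxBij) (hD : DwR F G) (hχ : IsIrrCharacter (GF F G) χ)
    (hl : l.Prime) (hp : l ≠ p) : Ht.DEG f χ l := fun g hL a b g₀ hg hb ha => by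
  obtain ⟨n, Q, h5, -, h6⟩ := exists_card hq f
  obtain ⟨h, h7⟩ := codeg hq f h1 h3 h4 hB hD hχ hL fun l j hl h => (h6 l j hl h).2
  have h8 : C b * (C (pc p (GF F G) : ℤ) * X ^ n * Q) = C a * (g₀ * h) := map_injective _ (RingHom.injective_int
    (Int.castRingHom ℚ)) (by
      rw [Polynomial.map_mul, ← h7, map_C, eq_intCast, ← mul_assoc, hg, Polynomial.map_mul, Polynomial.map_mul, map_C,
        eq_intCast, mul_assoc])
  have h9 := congrArg (coeff · (0 + n)) h8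
  simp only [mul_assoc, coeff_C_mul, coeff_X_pow_mul] at h9
  have hl' := Nat.prime_iff_prime_int.1 hl
  rcases hl'.dvd_or_dvd (h9 ▸ ha.mul_right _) with h10 | h10
  · exact hb h10
  rw [h5.dvd_mul_right, Int.natCast_dvd_natCast] at h10
  exact hp ((Nat.prime_dvd_prime_iff_eq hl Fact.out).1 (hl.dvd_of_dvd_pow h10))

theorem deg_of_dw (h1 : BoxCnt) (h3 : BoxExp) (h4 : BoxPow) (hB : BoxBij) (hD : DwP F G) (hχ : IsIrrCharacter (GF F G) χ)
    (hl : l.Prime) (hp : l ≠ p) : Ht.DEG f χ l := deg_of_dwR hq f h1 h3 h4 hB hD.dwR hχ hl hp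

/-- a torus which contains a Sylow `l`-subgroup in the support of `χ` -/
theorem not_dvd_of_deg (hL : LfE f χ) (hχ : IsIrrCharacter (GF F G) χ) (hl : l.Prime) (hd : Ht.DEG f χ l) {w₀ : D.W}
    (hS : LV.Blk.SylT D l w₀) (h0 : ∑ᶠ c, classInner χ (RW f w₀ c) ≠ 0) : ¬ l ∣ charDegree χ := fun hd' => by
  obtain ⟨c, n, u, Q, h1, h2, h3, -, h4⟩ := exists_deg f hq hL hχ
  have h5 := Int.natAbs_dvd_natAbs.2 (eval_dvd (x := 1) (h4 w₀ h0))
  rw [eval_mul, Pw_one, h3, Int.natAbs_mul, Int.natAbs_mul, Int.natAbs_natCast, Int.natAbs_natCast,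
    show (sgZ D w₀).natAbs = 1 by rcases sgZ_sign D w₀ with h | h <;> simp [h], one_mul] at h5
  have h6 : ¬ (l : ℤ) ∣ u.eval 1 := fun e => by
    have h7 := (Nat.factorization_le_iff_dvd (mul_pos hl.pos (Nat.pos_of_ne_zero (ordT_ne w₀))).ne' Nat.card_pos.ne').2
      ((mul_dvd_mul_right (Int.natCast_dvd.1 e) _).trans (h5.trans (Dvd.intro_left _ (pc_mul_pc' p (GF F G))))) l
    rw [hS, Nat.factorization_mul hl.ne_zero (ordT_ne w₀), Finsupp.add_apply, hl.factorization_self] at h7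
    omega
  have h7 : c.num * u.eval 1 = c.den * charDegree χ := Int.cast_injective (α := ℚ) (by
    rw [Int.cast_mul, Int.cast_mul, Int.cast_natCast, Int.cast_natCast, ← h2, ← mul_assoc, Rat.den_mul_eq_num])
  have h8 := ((Nat.prime_iff_prime_int.1 hl).dvd_or_dvd (h7 ▸ (Int.natCast_dvd_natCast.2 hd').mul_left _)).resolve_right h6
  refine hd _ h1 c.num c.den (X ^ n * u) (by rw [← mul_assoc, ← C_mul, Int.cast_natCast, Rat.den_mul_eq_num])
    (fun e => hl.not_dvd_one ?_) h8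
  rw [← c.reduced]
  exact Nat.dvd_gcd (Int.natCast_dvd.1 h8) (Int.natCast_dvd_natCast.1 e)

/-- the degree times the order of a torus in the support divides the order of the group -/
theorem deg_mul_dvd (hL : LfE f χ) (hχ : IsIrrCharacter (GF F G) χ) (hd : ∀ l : ℕ, l.Prime → l ≠ p → Ht.DEG f χ l) {w : D.W}
    (h0 : ∑ᶠ c, classInner χ (RW f w c) ≠ 0) : charDegree χ * ordT D w ∣ Nat.card (GF F G) := by
  have hp : p.Prime := Fact.out
  obtain ⟨c, n, u, Q, h1, h2, h3, -, h4⟩ := exists_deg f hq hL hχ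
  have h5 := Int.natAbs_dvd_natAbs.2 (eval_dvd (x := 1) (h4 w h0))
  rw [eval_mul, Pw_one, h3, Int.natAbs_mul, Int.natAbs_mul, Int.natAbs_natCast, Int.natAbs_natCast,
    show (sgZ D w).natAbs = 1 by rcases sgZ_sign D w with h | h <;> simp [h], one_mul] at h5
  have h6 : charDegree χ ≠ 0 := fun e => Blocks.Basic.irr_one_ne_zero hχ (by
    rw [← deg_cast (isIrr_isCharacter hχ), e, Nat.cast_zero])
  have h7 : c.num * u.eval 1 = c.den * charDegree χ := Int.cast_injective (α := ℚ) (by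
    rw [Int.cast_mul, Int.cast_mul, Int.cast_natCast, Int.cast_natCast, ← h2, ← mul_assoc, Rat.den_mul_eq_num])
  have h8 : charDegree χ * ordT D w ∣ c.num.natAbs * Nat.card (GF F G) := by
    have h9 := congrArg Int.natAbs h7
    rw [Int.natAbs_mul, Int.natAbs_mul, Int.natAbs_natCast, Int.natAbs_natCast] at h9
    refine (mul_dvd_mul_right (Dvd.intro_left _ h9.symm) _).trans ?_
    rw [mul_assoc]
    exact mul_dvd_mul_left _ (h5.trans (Dvd.intro_left _ (pc_mul_pc' p (GF F G))))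
  have h10 : c.num.natAbs ≠ 0 := fun e => by
    rw [Int.natAbs_eq_zero.1 e, zero_mul] at h7
    exact mul_ne_zero (Nat.cast_ne_zero.2 c.den_ne_zero) (Nat.cast_ne_zero.2 h6) h7.symm
  refine (Nat.factorization_prime_le_iff_dvd (mul_ne_zero h6 (ordT_ne w)) Nat.card_pos.ne').1 fun l hl => ?_
  by_cases h : l = p
  · rw [h, Nat.factorization_mul h6 (ordT_ne w), Finsupp.add_apply, Nat.factorization_eq_zero_of_not_dvd (n := ordT D w)
      fun e => not_dvd_pc' (p := p) (GF F G) (e.trans ((Dvd.intro_left _ rfl).trans h5)), add_zero]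
    exact (Nat.factorization_le_iff_dvd h6 Nat.card_pos.ne').2 (H593.GlaubermanP.charDegree_dvd hχ) p
  have h11 := (Nat.factorization_le_iff_dvd (mul_ne_zero h6 (ordT_ne w)) (mul_ne_zero h10 Nat.card_pos.ne')).2 h8 l
  rwa [Nat.factorization_mul h10 Nat.card_pos.ne', Finsupp.add_apply, Nat.factorization_eq_zero_of_not_dvd (n := c.num.natAbs)
    fun e => hd l hl h _ h1 c.num c.den (X ^ n * u) (by rw [← mul_assoc, ← C_mul, Int.cast_natCast, Rat.den_mul_eq_num])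
      (fun e' => hl.not_dvd_one (c.reduced ▸ Nat.dvd_gcd e (Int.natCast_dvd_natCast.1 e'))) (Int.natCast_dvd.2 e),
    zero_add] at h11

omit hq f in
theorem boxDEG_of (h1 : BoxCnt) (h2 : BoxDw) (h3 : BoxExp) (h4 : BoxPow) (hB : BoxBij) : BoxDEG :=
  fun {_ _ _ _ _ _ _ _ _ _ _ _ _ _ X} f _ hq hN _ hχ _ hl hp => deg_of_dw hq f h1 h3 h4 hB (h2 X hN).dwP hχ hl hp

/-- the degree times the order of a torus in the support divides the order of the group -/
def BoxDvd : Prop :=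
  ∀ {p : ℕ} [Fact p.Prime] {k : Type} [Field k] [CharP k p] {Y : Type} [Group Y] {N : Type} [Fintype N]
    [DecidableEq N] {ρ : Y →* GL N k} {F : MulAut Y} {G : Subgroup Y} [IsAlgClosed k] {X : Datum p ρ F G} (f : Fr X)
    [Fintype ↥(GF F G)], X.QS → NT p ρ F → ∀ χ : GF F G → ℂ, IsIrrCharacter (GF F G) χ →
      ∀ w, ∑ᶠ c, classInner χ (RW f w c) ≠ 0 → charDegree χ * ordT X w ∣ Nat.card (GF F G)

omit hq f in
theorem boxDvd_of (hB : BoxBij) (h : BoxDEG) : BoxDvd := fun f _ hq hN χ hχ _ h0 =>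
  deg_mul_dvd hq f (lfE_of_bij hq f hB hχ) hχ (h f hq hN χ hχ) h0

end Cfsg.Agent.KM.Deg
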